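import Mathlib.Algebra.Category.Grp.Basic
import Mathlib.CategoryTheory.CofilteredSystem
import Mathlib.Algebra.BigOperators.Intervals
import Mathlib.Algebra.Group.Subgroup.Finite
import Mathlib.Order.Interval.Finset.Nat
import Mathlib.Tactic.Abel

/-!
# Towers of abelian groups: vanishing of `lim¹`
-/

set_option autoImplicit false

universe u

open CategoryTheory Opposite

namespace Groth.Agent.RlimMod16

variable (A : ℕᵒᵖ ⥤ AddCommGrpCat.{u})

/-- The transition maps of a tower. -/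
abbrev tr {n m : ℕ} (h : n ≤ m) : A.obj (op m) →+ A.obj (op n) := (A.map (homOfLE h).op).hom

theorem tr_self {n : ℕ} (x : A.obj (op n)) : tr A (le_refl n) x = x := by
  show (A.map (homOfLE (le_refl n)).op) x = x
  rw [show (homOfLE (le_refl n)).op = 𝟙 (op n) from rfl, A.map_id]
  rfl

theorem tr_tr {n m l : ℕ} (h : n ≤ m) (h' : m ≤ l) (x : A.obj (op l)) :
    tr A h (tr A h' x) = tr A (h.trans h') x := by
  show (A.map (homOfLE h).op) ((A.map (homOfLE h').op) x) = (A.map (homOfLE (h.trans h')).op) x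
  rw [show (homOfLE (h.trans h')).op = (homOfLE h').op ≫ (homOfLE h).op from
    Quiver.Hom.unop_inj (Subsingleton.elim _ _), A.map_comp]
  rfl

/-- The difference map `(b n) ↦ (b n - t (b (n + 1)))` is surjective. -/
def DiffSurj : Prop :=
  ∀ a : ∀ n, A.obj (op n), ∃ b : ∀ n, A.obj (op n), ∀ n, b n - tr A (Nat.le_succ n) (b (n + 1)) = a n

theorem diffSurj_of_surjective (h : ∀ n, Function.Surjective (tr A (Nat.le_succ n))) : DiffSurj A := by
  intro a
  choose s hs using h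
  refine ⟨fun n => Nat.rec 0 (fun i r => s i (r - a i)) n, fun n => ?_⟩
  show _ - tr A (Nat.le_succ n) (s n (_ - a n)) = a n
  rw [hs]
  abel

/-- Classical vanishing of `lim¹` for Mittag-Leffler towers. -/
theorem diffSurj_of_isMittagLeffler (hA : (A ⋙ forget AddCommGrpCat.{u}).IsMittagLeffler) : DiffSurj A := by
  intro y
  have hML : ∀ n : ℕ, ∃ (m : ℕ) (hm : n ≤ m), ∀ (m' : ℕ) (hm' : m ≤ m') (x : A.obj (op m)),
      ∃ y, tr A (hm.trans hm') y = tr A hm x := fun n => by
    obtain ⟨⟨m⟩, f, hf⟩ := hA (op n)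
    have hm : n ≤ m := leOfHom f.unop
    refine ⟨m, hm, fun m' hm' x => ?_⟩
    obtain ⟨y, hy⟩ := hf (homOfLE (hm.trans hm')).op ⟨x, rfl⟩
    refine ⟨y, hy.trans ?_⟩
    rw [show f = (homOfLE hm).op from Quiver.Hom.unop_inj (Subsingleton.elim _ _)]
    rfl
  choose m₀ hm₀ hst₀ using hML
  let m : ℕ → ℕ := fun n => Nat.rec (m₀ 0) (fun i r => max r (m₀ (i + 1))) n
  have hm : ∀ n, n ≤ m n := fun n => by
    cases n with
    | zero => exact Nat.zero_le _
    | succ i => exact (hm₀ (i + 1)).trans (le_max_right _ _)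
  have hm' : ∀ n, m₀ n ≤ m n := fun n => by
    cases n with
    | zero => exact le_rfl
    | succ i => exact le_max_right _ _
  have hst : ∀ n m' (h : m n ≤ m') (x : A.obj (op (m n))),
      ∃ w, tr A ((hm n).trans h) w = tr A (hm n) x := fun n m' h x => by
    obtain ⟨w, hw⟩ := hst₀ n m' ((hm' n).trans h) (tr A (hm' n) x)
    exact ⟨w, hw.trans (tr_tr A (hm₀ n) (hm' n) x)⟩
  let E : ∀ n, AddSubgroup (A.obj (op n)) := fun n => (tr A (hm n)).range
  have hEle : ∀ n l (h : m n ≤ l) (w : A.obj (op l)), tr A ((hm n).trans h) w ∈ E n := fun n l h w =>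
    ⟨tr A h w, tr_tr A (hm n) h w⟩
  have hsurj : ∀ n, ∀ e ∈ E n, ∃ e' ∈ E (n + 1), tr A (Nat.le_succ n) e' = e := by
    rintro n _ ⟨x, rfl⟩
    obtain ⟨w, hw⟩ := hst n (m (n + 1)) (le_max_left _ _) x
    exact ⟨tr A (hm (n + 1)) w, ⟨w, rfl⟩, (tr_tr A _ _ w).trans hw⟩
  let zz : ∀ n, A.obj (op n) := fun n =>
    ∑ j ∈ Finset.Ico n (m n), if hj : n ≤ j then tr A hj (y j) else 0
  have herr : ∀ n, y n - (zz n - tr A (Nat.le_succ n) (zz (n + 1))) ∈ E n := by
    intro n
    let g : ℕ → A.obj (op n) := fun j => if hj : n ≤ j then tr A hj (y j) else 0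
    have h1 : tr A (Nat.le_succ n) (zz (n + 1)) = ∑ j ∈ Finset.Ico (n + 1) (m (n + 1)), g j := by
      show tr A (Nat.le_succ n) (Finset.sum _ _) = _
      rw [map_sum]
      refine Finset.sum_congr rfl fun j hj => ?_
      have := (Finset.mem_Ico.1 hj).1
      simp only [g, dif_pos this, dif_pos (show n ≤ j by omega), tr_tr]
    have hle : m n ≤ m (n + 1) := le_max_left _ _
    have h2 : y n - (zz n - tr A (Nat.le_succ n) (zz (n + 1))) = ∑ j ∈ Finset.Ico (m n) (m (n + 1)), g j := by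
      have hg : g n = y n := by simp only [g, dif_pos (le_refl n), tr_self]
      have e1 : ∑ j ∈ Finset.Ico n (m (n + 1)), g j = g n + ∑ j ∈ Finset.Ico (n + 1) (m (n + 1)), g j :=
        Finset.sum_eq_sum_Ico_succ_bot (by have := hm (n + 1); omega) g
      have e2 : (∑ j ∈ Finset.Ico n (m n), g j) + ∑ j ∈ Finset.Ico (m n) (m (n + 1)), g j =
          ∑ j ∈ Finset.Ico n (m (n + 1)), g j := Finset.sum_Ico_consecutive g (hm n) hle
      rw [h1, ← hg]
      show g n - ((∑ j ∈ Finset.Ico n (m n), g j) - _) = _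
      rw [sub_sub_eq_add_sub, ← e1, ← e2, add_sub_cancel_left]
    rw [h2]
    refine sum_mem fun j hj => ?_
    simp only [g, dif_pos ((hm n).trans (Finset.mem_Ico.1 hj).1)]
    exact hEle n j (Finset.mem_Ico.1 hj).1 (y j)
  have hw : ∀ (n : ℕ) (v : E n), ∃ v' : E (n + 1),
      tr A (Nat.le_succ n) v'.1 = v.1 - (y n - (zz n - tr A (Nat.le_succ n) (zz (n + 1)))) := fun n v => by
    obtain ⟨e', he', h⟩ := hsurj n _ (sub_mem v.2 (herr n))
    exact ⟨⟨e', he'⟩, h⟩
  choose w hw' using hw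
  let v : ∀ n, E n := fun n => Nat.rec 0 (fun i r => w i r) n
  refine ⟨fun n => zz n + (v n).1, fun n => ?_⟩
  show zz n + (v n).1 - tr A (Nat.le_succ n) (zz (n + 1) + (w n (v n)).1) = y n
  rw [map_add, hw']
  abel

variable {A} {B C : ℕᵒᵖ ⥤ AddCommGrpCat.{u}}

/-- Compatible preimages exist when `lim¹` of the kernel tower vanishes. -/
theorem exists_compatible (f : A ⟶ B) (g : B ⟶ C) (hfg : ∀ n a, g.app (op n) (f.app (op n) a) = 0)
    (hex : ∀ n b, g.app (op n) b = 0 → ∃ a, f.app (op n) a = b) (hA : DiffSurj A)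
    (x : ∀ n, C.obj (op n)) (hx : ∀ n, tr C (Nat.le_succ n) (x (n + 1)) = x n)
    (hy : ∀ n, ∃ y, g.app (op n) y = x n) :
    ∃ y : ∀ n, B.obj (op n), (∀ n, tr B (Nat.le_succ n) (y (n + 1)) = y n) ∧ ∀ n, g.app (op n) (y n) = x n := by
  choose y hy using hy
  have hc : ∀ n, ∃ a, f.app (op n) a = tr B (Nat.le_succ n) (y (n + 1)) - y n := fun n => by
    refine hex n _ ?_
    rw [map_sub, sub_eq_zero, hy, ← hx n, ← hy (n + 1)]
    exact NatTrans.naturality_apply g (homOfLE (Nat.le_succ n)).op (y (n + 1))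
  choose a ha using hc
  obtain ⟨b, hb⟩ := hA a
  refine ⟨fun n => y n + f.app (op n) (b n), fun n => ?_, fun n => by rw [map_add, hfg, add_zero, hy]⟩
  have h1 : tr B (Nat.le_succ n) (f.app (op (n + 1)) (b (n + 1))) =
      f.app (op n) (tr A (Nat.le_succ n) (b (n + 1))) :=
    (NatTrans.naturality_apply f (homOfLE (Nat.le_succ n)).op (b (n + 1))).symm
  rw [map_add, h1, show tr B (Nat.le_succ n) (y (n + 1)) = f.app (op n) (a n) + y n by rw [ha, sub_add_cancel],
    ← hb n, map_sub]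
  abel

end Groth.Agent.RlimMod16
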