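import Groth.Agent.Lib.CohFound.DimShift
import Groth.Agent.Lib.CohFound.Flasque

/-!
# Sections of a flasque resolution over an open with no higher cohomology
-/

set_option autoImplicit false
set_option backward.isDefEq.respectTransparency false
set_option backward.isDefEq.respectTransparency.types false
set_option linter.style.haveILetI false

universe u

open CategoryTheory CategoryTheory.Limits TopologicalSpace Opposite

namespace Groth.Agent.RlimMod16

open Groth.Agent.CohFound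

variable {X : TopCat.{u}}

theorem exact_of_locally {S : ShortComplex (CohTop.Ab X)}
    (hex : ∀ (U : Opens X) (s : S.X₂.obj.obj (op U)), S.g.hom.app (op U) s = 0 → ∀ x ∈ U,
      ∃ (V : Opens X) (hV : V ≤ U), x ∈ V ∧ ∃ t, S.f.hom.app (op V) t = S.X₂.obj.map (homOfLE hV).op s) :
    S.Exact := by
  rw [ShortComplex.exact_iff_epi_kernel_lift]
  refine epi_of_locally_lift _ fun U s x hx => ?_
  obtain ⟨V, hV, hxV, t, ht⟩ := hex U ((kernel.ι S.g).hom.app (op U) s) (by
    exact congrArg (fun φ : kernel S.g ⟶ S.X₃ => φ.hom.app (op U) s) (kernel.condition S.g)) x hx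
  refine ⟨V, hV, hxV, t, injective_app_of_mono (kernel.ι S.g) V ?_⟩
  refine (congrArg (fun φ : S.X₁ ⟶ S.X₂ => φ.hom.app (op V) t) (kernel.lift_ι S.g S.f S.zero)).trans ?_
  exact ht.trans (NatTrans.naturality_apply (kernel.ι S.g).hom (homOfLE hV).op s).symm

variable (U : Opens X) (K : CochainComplex (CohTop.Ab X) ℕ) (hK : ∀ p, TopCat.Sheaf.IsFlasque (K.X p))
  {E : CohTop.Ab X} (hE : ∀ q, Subsingleton (Hc E (q + 1) U)) (ι : E ⟶ K.X 0) [Mono ι]
  (w : ι ≫ K.d 0 1 = 0) (h0 : (ShortComplex.mk ι (K.d 0 1) w).Exact)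
  (hex : ∀ p, (K.sc' p (p + 1) (p + 2)).Exact)

include hex in
/-- The truncation of the resolution at stage `p`. -/
theorem shortExact_step (p : ℕ) {A : CohTop.Ab X} (f : A ⟶ K.X p) (hw : f ≫ K.d p (p + 1) = 0) [Mono f]
    (hA : (ShortComplex.mk f _ hw).Exact) :
    (ShortComplex.mk f (kernel.lift (K.d (p + 1) (p + 2)) (K.d p (p + 1)) (K.d_comp_d _ _ _))
      (by rw [← cancel_mono (kernel.ι _), Category.assoc, kernel.lift_ι, hw, zero_comp])).ShortExact where
  exact := (ShortComplex.exact_iff_of_epi_of_isIso_of_mono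
    ({ τ₁ := 𝟙 _, τ₂ := 𝟙 _, τ₃ := kernel.ι _, comm₁₂ := by simp, comm₂₃ := by simp } :
      ShortComplex.mk f (kernel.lift (K.d (p + 1) (p + 2)) (K.d p (p + 1)) (K.d_comp_d _ _ _))
        (by rw [← cancel_mono (kernel.ι _), Category.assoc, kernel.lift_ι, hw, zero_comp]) ⟶
      ShortComplex.mk f _ hw)).2 hA
  epi_g := (ShortComplex.exact_iff_epi_kernel_lift (K.sc' p (p + 1) (p + 2))).1 (hex p)

include hK hE h0 hex in
theorem exists_trunc (p : ℕ) : ∃ (A : CohTop.Ab X) (f : A ⟶ K.X p) (hw : f ≫ K.d p (p + 1) = 0),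
    Mono f ∧ (ShortComplex.mk f _ hw).Exact ∧ ∀ q, Subsingleton (Hc A (q + 1) U) := by
  induction p with
  | zero => exact ⟨E, ι, w, inferInstance, h0, hE⟩
  | succ p ih =>
    obtain ⟨A, f, hw, hf, hA, hc⟩ := ih
    haveI := hf
    have hS := shortExact_step K hex p f hw hA
    refine ⟨_, kernel.ι (K.d (p + 1) (p + 2)), kernel.condition _, inferInstance,
      ShortComplex.exact_kernel _, fun q => subsingleton_of_forall_eq 0 fun x => ?_⟩
    haveI := hc (q + 1)
    haveI := hK p
    obtain ⟨y, rfl⟩ := exact₃ hS (q + 1) U x (Subsingleton.elim (α := Hc A (q + 1 + 1) U) _ _)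
    haveI := subsingleton_hc_of_isFlasque (K.X p) q U
    rw [show y = 0 from Subsingleton.elim (α := Hc (K.X p) (q + 1) U) y 0, map_zero]

include hK hE h0 hex in
theorem exists_preimage (p : ℕ) (x : (K.X (p + 1)).obj.obj (op U))
    (hx : (K.d (p + 1) (p + 2)).hom.app (op U) x = 0) : ∃ y, (K.d p (p + 1)).hom.app (op U) y = x := by
  obtain ⟨A, f, hw, hf, hA, hc⟩ := exists_trunc U K hK hE ι w h0 hex p
  haveI := hf
  obtain ⟨z, rfl⟩ := exact_app (S := ShortComplex.mk _ _ (kernel.condition (K.d (p + 1) (p + 2))))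
    (ShortComplex.exact_kernel _) x hx
  obtain ⟨y, rfl⟩ := app_surjective_of_subsingleton (shortExact_step K hex p f hw hA) U (hc 0) z
  exact ⟨y, (congrArg (fun φ : K.X p ⟶ K.X (p + 1) => φ.hom.app (op U) y)
    (kernel.lift_ι (K.d (p + 1) (p + 2)) (K.d p (p + 1)) (K.d_comp_d _ _ _))).symm⟩

end Groth.Agent.RlimMod16
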