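import Groth.Agent.Lib.RlimMod16.Alg
import Groth.Agent.Lib.RlimMod16.Res
import Groth.Agent.Lib.CohFound.ModFlasque
import Groth.Agent.Lib.CohFound.ModulesInst
import Groth.Agent.Lib.CohFound.Bridge
import Mathlib.CategoryTheory.Adjunction.Evaluation
import Mathlib.CategoryTheory.Abelian.RightDerived
import Mathlib.CategoryTheory.Abelian.Exact
import Mathlib.CategoryTheory.Abelian.Injective.Basic
import Mathlib.CategoryTheory.Limits.Preserves.FunctorCategory

/-!
# Derived limits of towers of sheaves of modules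
-/

set_option autoImplicit false
set_option backward.isDefEq.respectTransparency false
set_option backward.isDefEq.respectTransparency.types false
set_option linter.style.haveILetI false

universe u v w

open CategoryTheory CategoryTheory.Limits TopologicalSpace Opposite

namespace Groth.Agent.RlimMod16

open Groth.Agent.CohFound

section Tower

variable {D : Type w} [Category.{v} D] [Abelian D]

/-- The tower `G ← G ← … ← G ← 0 ← …` as a left adjoint of evaluation. -/
noncomputable abbrev L (n : ℕ) : D ⥤ ℕᵒᵖ ⥤ D := evaluationLeftAdjoint D (op n)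

instance mono_L_map (n : ℕ) {G G' : D} (φ : G ⟶ G') [Mono φ] : Mono ((L n).map φ) := by
  haveI : ∀ t, Mono (((L n).map φ).app t) := fun t => by
    refine ⟨fun {T} a b h => ?_⟩
    rcases isEmpty_or_nonempty (op n ⟶ t) with he | ⟨⟨g⟩⟩
    · have hz : IsZero (((L n).obj G).obj t) := by
        rw [IsZero.iff_id_eq_zero]
        exact Sigma.hom_ext _ _ fun g => he.elim g
      exact hz.eq_of_tgt _ _
    · let r : ((L n).obj G).obj t ⟶ G := Sigma.desc fun _ => 𝟙 G
      let r' : ((L n).obj G').obj t ⟶ G' := Sigma.desc fun _ => 𝟙 G'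
      have h1 : r ≫ Sigma.ι (fun _ : op n ⟶ t => G) g = 𝟙 _ := Sigma.hom_ext _ _ fun g' => by
        obtain rfl : g' = g := Subsingleton.elim _ _
        simp [r]
        exact (Category.comp_id _).symm
      have h2 : ((L n).map φ).app t ≫ r' = r ≫ φ := Sigma.hom_ext _ _ fun g' => by
        simp [r, r', evaluationLeftAdjoint]
      have h3 : a ≫ r = b ≫ r := by
        rw [← cancel_mono φ, Category.assoc, Category.assoc, ← h2, reassoc_of% h]
      rw [← Category.comp_id a, ← Category.comp_id b, ← h1, reassoc_of% h3]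
  exact NatTrans.mono_of_mono_app _

variable (I : ℕᵒᵖ ⥤ D) [Injective I]

theorem injective_obj (n : ℕ) : Injective (I.obj (op n)) := by
  haveI : (L (D := D) n).PreservesMonomorphisms := ⟨fun φ _ => mono_L_map n φ⟩
  exact Injective.injective_of_adjoint (evaluationAdjunctionRight D (op n)) I

/-- The transition maps of an injective tower are split epimorphisms. -/
theorem exists_section_transition (n : ℕ) :
    ∃ s : I.obj (op n) ⟶ I.obj (op (n + 1)), s ≫ I.map (homOfLE (Nat.le_succ n)).op = 𝟙 _ := by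
  let t : op (n + 1) ⟶ op n := (homOfLE (Nat.le_succ n)).op
  let G := I.obj (op n)
  let α : (L n).obj G ⟶ (L (n + 1)).obj G :=
    { app := fun x => Sigma.desc fun f => Sigma.ι (fun _ : op (n + 1) ⟶ x => G) (t ≫ f)
      naturality := fun x y f => Sigma.hom_ext _ _ fun g => by simp [evaluationLeftAdjoint] }
  haveI : ∀ x, Mono (α.app x) := fun x => by
    refine ⟨fun {T} a b h => ?_⟩
    rcases isEmpty_or_nonempty (op n ⟶ x) with he | ⟨⟨g⟩⟩
    · have hz : IsZero (((L n).obj G).obj x) := by
        rw [IsZero.iff_id_eq_zero]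
        exact Sigma.hom_ext _ _ fun g => he.elim g
      exact hz.eq_of_tgt _ _
    · let r : ((L (n + 1)).obj G).obj x ⟶ ((L n).obj G).obj x :=
        Sigma.desc fun _ => Sigma.ι (fun _ : op n ⟶ x => G) g
      have h1 : α.app x ≫ r = 𝟙 _ := Sigma.hom_ext _ _ fun g' => by
        obtain rfl : g' = g := Subsingleton.elim _ _
        simp [r, α]
        exact (Category.comp_id _).symm
      rw [← Category.comp_id a, ← Category.comp_id b, ← h1, reassoc_of% h]
  haveI : Mono α := NatTrans.mono_of_mono_app _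
  let e : (L n).obj G ⟶ I :=
    { app := fun x => Sigma.desc fun f => I.map f
      naturality := fun x y f => Sigma.hom_ext _ _ fun g => by simp [evaluationLeftAdjoint, G] }
  let b := Injective.factorThru e α
  refine ⟨Sigma.ι (fun _ : op (n + 1) ⟶ op (n + 1) => G) (𝟙 _) ≫ b.app (op (n + 1)), ?_⟩
  rw [Category.assoc, ← b.naturality]
  have h : α.app (op n) ≫ b.app (op n) = e.app (op n) :=
    congrArg (fun φ : (L n).obj G ⟶ I => φ.app (op n)) (Injective.comp_factorThru e α)
  have h' := congrArg (fun ψ => Sigma.ι (fun _ : op n ⟶ op n => G) (𝟙 _) ≫ ψ) h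
  simpa [α, e, t, evaluationLeftAdjoint, G] using h'

end Tower

variable {X : TopCat.{u}} {R : Sheaf (Opens.grothendieckTopology X) RingCat.{u}}

/-- Sections over `U`. -/
noncomputable abbrev sec (U : Opens X) : SheafOfModules.{u} R ⥤ AddCommGrpCat.{u} :=
  SheafOfModules.toSheaf R ⋙ (sheafSections (Opens.grothendieckTopology X) AddCommGrpCat.{u}).obj (op U)

theorem preservesLimitsOfShape_sec (U : Opens X) : PreservesLimitsOfShape ℕᵒᵖ (sec (R := R) U) :=
  preservesLimitsOfShape_of_natIso
    (F := SheafOfModules.forget.{u} R ⋙ PresheafOfModules.toPresheaf _ ⋙ (evaluation _ _).obj (op U))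
    (Iso.refl _)

theorem preservesFiniteColimits_toSheaf : PreservesFiniteColimits (SheafOfModules.toSheaf.{u} R) := by
  haveI : PreservesColimitsOfSize.{u, u} (SheafOfModules.toSheaf.{u} R) := ⟨inferInstance⟩
  exact PreservesColimitsOfSize.preservesFiniteColimits _

theorem exists_limit_section (F : ℕᵒᵖ ⥤ SheafOfModules.{u} R) (U : Opens X)
    (s : ∀ n, (F ⋙ sec U).obj (op n))
    (hs : ∀ n, tr (F ⋙ sec U) (Nat.le_succ n) (s (n + 1)) = s n) :
    ∃ σ : (sec U).obj (limit F), ∀ n, (sec U).map (limit.π F (op n)) σ = s n := by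
  haveI := preservesLimitsOfShape_sec (R := R) U
  have hall : ∀ (m n : ℕ) (hnm : n ≤ m), tr (F ⋙ sec U) hnm (s m) = s n := fun m n hnm => by
    induction m, hnm using Nat.le_induction with
    | base => rw [tr_self]
    | succ m hm ih => rw [← tr_tr (F ⋙ sec U) hm (Nat.le_succ m), hs, ih]
  let h := isLimitOfPreserves (sec U ⋙ forget AddCommGrpCat.{u}) (limit.isLimit F)
  refine ⟨(Types.isLimitEquivSections h).symm ⟨fun j => s j.unop, fun {i j} f => ?_⟩, fun n =>
    Types.isLimitEquivSections_symm_apply h _ (op n)⟩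
  obtain ⟨i⟩ := i
  obtain ⟨j⟩ := j
  rw [show f = (homOfLE (leOfHom f.unop)).op from Quiver.Hom.unop_inj (Subsingleton.elim _ _)]
  exact hall i j _

theorem limit_section_ext (F : ℕᵒᵖ ⥤ SheafOfModules.{u} R) (U : Opens X) (σ τ : (sec U).obj (limit F))
    (h : ∀ n, (sec U).map (limit.π F (op n)) σ = (sec U).map (limit.π F (op n)) τ) : σ = τ := by
  haveI := preservesLimitsOfShape_sec (R := R) U
  exact (Types.isLimitEquivSections
    (isLimitOfPreserves (sec U ⋙ forget AddCommGrpCat.{u}) (limit.isLimit F))).injective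
    (Subtype.ext (funext fun n => h n.unop))

theorem compatible_limit_section (F : ℕᵒᵖ ⥤ SheafOfModules.{u} R) (U : Opens X) (σ : (sec U).obj (limit F))
    (n : ℕ) : tr (F ⋙ sec U) (Nat.le_succ n) ((sec U).map (limit.π F (op (n + 1))) σ) =
      (sec U).map (limit.π F (op n)) σ :=
  (ConcreteCategory.congr_hom ((sec U).map_comp (limit.π F (op (n + 1)))
      (F.map (homOfLE (Nat.le_succ n)).op)) σ).symm.trans
    (congrArg (fun φ => (sec U).map φ σ) (limit.w F (homOfLE (Nat.le_succ n)).op))

theorem limMap_π_apply {F G : ℕᵒᵖ ⥤ SheafOfModules.{u} R} (g : F ⟶ G) (U : Opens X)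
    (σ : (sec U).obj (limit F)) (n : ℕ) :
    (sec U).map (limit.π G (op n)) ((sec U).map (limMap g) σ) =
      (Functor.whiskerRight g (sec U)).app (op n) ((sec U).map (limit.π F (op n)) σ) :=
  (ConcreteCategory.congr_hom ((sec U).map_comp (limMap g) (limit.π G (op n))) σ).symm.trans
    ((congrArg (fun φ => (sec U).map φ σ) (limMap_π g (op n))).trans
      (ConcreteCategory.congr_hom ((sec U).map_comp (limit.π F (op n)) (g.app (op n))) σ))

variable {E : ℕᵒᵖ ⥤ SheafOfModules.{u} R}

/-- The resolution at level `n`, as abelian sheaves. -/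
noncomputable abbrev levelCx (I : InjectiveResolution E) (n : ℕ) : CochainComplex (CohTop.Ab X) ℕ :=
  (((evaluation _ _).obj (op n) ⋙ SheafOfModules.toSheaf R).mapHomologicalComplex _).obj I.cocomplex

theorem isFlasque_level (I : InjectiveResolution E) (n p : ℕ) :
    TopCat.Sheaf.IsFlasque ((levelCx I n).X p) := by
  haveI : Injective (I.cocomplex.X p) := I.injective p
  haveI := injective_obj (I.cocomplex.X p) n
  exact isFlasque_mk _ fun _ _ h s =>
    surjective_map_of_injective R ((I.cocomplex.X p).obj (op n)) inferInstance h s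

theorem diffSurj_level (I : InjectiveResolution E) (U : Opens X) (p : ℕ) :
    DiffSurj (I.cocomplex.X p ⋙ sec U) := by
  haveI : Injective (I.cocomplex.X p) := I.injective p
  refine diffSurj_of_surjective _ fun n x => ?_
  obtain ⟨s, hs⟩ := exists_section_transition (I.cocomplex.X p) n
  exact ⟨(sec U).map s x, (ConcreteCategory.congr_hom ((sec U).map_comp s _) x).symm.trans
    ((congrArg (fun φ => (sec U).map φ x) hs).trans (ConcreteCategory.congr_hom ((sec U).map_id _) x))⟩

/-- The augmentation at level `n`. -/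
noncomputable abbrev levelι (I : InjectiveResolution E) (n : ℕ) :
    (SheafOfModules.toSheaf R).obj (E.obj (op n)) ⟶ (levelCx I n).X 0 :=
  (SheafOfModules.toSheaf R).map ((I.ι.f 0).app (op n))

theorem level_exact (I : InjectiveResolution E) (n : ℕ) :
    Mono (levelι I n) ∧ (∃ w, (ShortComplex.mk (levelι I n) ((levelCx I n).d 0 1) w).Exact) ∧
      ∀ p, ((levelCx I n).sc' p (p + 1) (p + 2)).Exact := by
  haveI := preservesFiniteColimits_toSheaf (R := R)
  let Φ := (evaluation ℕᵒᵖ (SheafOfModules.{u} R)).obj (op n) ⋙ SheafOfModules.toSheaf R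
  haveI : PreservesFiniteColimits Φ := comp_preservesFiniteColimits _ _
  haveI : PreservesFiniteLimits Φ := comp_preservesFiniteLimits _ _
  refine ⟨inferInstanceAs (Mono (Φ.map (I.ι.f 0))), ⟨_, I.exact₀.map Φ⟩, fun p => ?_⟩
  exact (I.exact_succ p).map Φ

variable (B : Set (Opens X)) (hB : Opens.IsBasis B)
  (ha : ∀ U ∈ B, ∀ (n i : ℕ), 1 ≤ i →
    Subsingleton (CohTop.HU ((SheafOfModules.toSheaf R).obj (E.obj (op n))) i U))

include hB ha in
/-- Vanishing of a derived limit from the vanishing of the difference cokernel one step before. -/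
theorem isZero_rightDerived [(lim : (ℕᵒᵖ ⥤ SheafOfModules.{u} R) ⥤ SheafOfModules.{u} R).Additive]
    [HasInjectiveResolutions (ℕᵒᵖ ⥤ SheafOfModules.{u} R)]
    (I : InjectiveResolution E) (p : ℕ)
    {A : ℕᵒᵖ ⥤ SheafOfModules.{u} R} (f : A ⟶ I.cocomplex.X p) (w : f ≫ I.cocomplex.d p (p + 1) = 0)
    (hex : ∀ (n : ℕ) (U : Opens X) (b : (sec U).obj ((I.cocomplex.X p).obj (op n))), U ∈ B →
      (sec U).map ((I.cocomplex.d p (p + 1)).app (op n)) b = 0 → ∃ a, (sec U).map (f.app (op n)) a = b)
    (hA : ∀ U ∈ B, DiffSurj (A ⋙ sec U)) :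
    IsZero (((lim : (ℕᵒᵖ ⥤ SheafOfModules.{u} R) ⥤ SheafOfModules.{u} R).rightDerived (p + 1)).obj E) := by
  refine IsZero.of_iso ?_ (I.isoRightDerivedObj _ (p + 1))
  refine (HomologicalComplex.exactAt_iff_isZero_homology _ _).1 ?_
  rw [HomologicalComplex.exactAt_iff' _ p (p + 1) (p + 2) (by simp) (by simp)]
  haveI := preservesFiniteColimits_toSheaf (R := R)
  rw [← ShortComplex.exact_map_iff_of_faithful _ (SheafOfModules.toSheaf R)]
  refine exact_of_locally fun U (s : (sec U).obj (limit (I.cocomplex.X (p + 1)))) hs x hx => ?_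
  obtain ⟨V, hVB, hxV, hVU⟩ := Opens.isBasis_iff_nbhd.1 hB hx
  refine ⟨V, hVU, hxV, ?_⟩
  let σ : (sec V).obj (limit (I.cocomplex.X (p + 1))) :=
    ((SheafOfModules.toSheaf R).obj (limit (I.cocomplex.X (p + 1)))).obj.map (homOfLE hVU).op s
  have hσ : (sec V).map (limMap (I.cocomplex.d (p + 1) (p + 2))) σ = 0 :=
    (NatTrans.naturality_apply ((SheafOfModules.toSheaf R).map (limMap (I.cocomplex.d (p + 1) (p + 2)))).hom
      (homOfLE hVU).op s).trans ((congrArg _ hs).trans (map_zero _))
  obtain ⟨y, hy₁, hy₂⟩ := exists_compatible (Functor.whiskerRight f (sec V))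
    (Functor.whiskerRight (I.cocomplex.d p (p + 1)) (sec V))
    (fun n a => (ConcreteCategory.congr_hom ((sec V).map_comp (f.app (op n)) _) a).symm.trans (by
      rw [← NatTrans.comp_app, w]
      exact ConcreteCategory.congr_hom ((sec V).map_zero _ _) a))
    (fun n b hb => hex n V b hVB hb) (hA V hVB)
    (fun n => (sec V).map (limit.π _ (op n)) σ) (compatible_limit_section _ V σ) fun n => by
      obtain ⟨-, ⟨w₀, h₀⟩, hp⟩ := level_exact I n
      haveI := (level_exact I n).1
      refine exists_preimage V (levelCx I n) (isFlasque_level I n)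
        (fun q => (subsingleton_HU_iff _ _ _).1 (ha V hVB n (q + 1) (Nat.le_add_left 1 q)))
        (levelι I n) w₀ h₀ hp p _ ?_
      exact (limMap_π_apply (I.cocomplex.d (p + 1) (p + 2)) V σ n).symm.trans
        ((congrArg _ hσ).trans (map_zero _))
  obtain ⟨τ, hτ⟩ := exists_limit_section _ V y hy₁
  refine ⟨τ, limit_section_ext _ V _ σ fun n => ?_⟩
  exact (limMap_π_apply (I.cocomplex.d p (p + 1)) V τ n).trans ((congrArg _ (hτ n)).trans (hy₂ n))

include hB ha in
theorem isZero_rightDerived_of_two_le [(lim : (ℕᵒᵖ ⥤ SheafOfModules.{u} R) ⥤ SheafOfModules.{u} R).Additive]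
    [HasInjectiveResolutions (ℕᵒᵖ ⥤ SheafOfModules.{u} R)] (p : ℕ) :
    IsZero (((lim : (ℕᵒᵖ ⥤ SheafOfModules.{u} R) ⥤ SheafOfModules.{u} R).rightDerived (p + 2)).obj E) := by
  let I := (HasInjectiveResolutions.out E).out.some
  refine isZero_rightDerived B hB ha I (p + 1) (I.cocomplex.d p (p + 1)) (I.cocomplex.d_comp_d _ _ _)
    (fun n U b hU hb => ?_) fun U _ => diffSurj_level I U p
  obtain ⟨-, ⟨w₀, h₀⟩, hp⟩ := level_exact I n
  haveI := (level_exact I n).1
  exact exists_preimage U (levelCx I n) (isFlasque_level I n)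
    (fun q => (subsingleton_HU_iff _ _ _).1 (ha U hU n (q + 1) (Nat.le_add_left 1 q)))
    (levelι I n) w₀ h₀ hp p b hb

include hB ha in
theorem isZero_rightDerived_one [(lim : (ℕᵒᵖ ⥤ SheafOfModules.{u} R) ⥤ SheafOfModules.{u} R).Additive]
    [HasInjectiveResolutions (ℕᵒᵖ ⥤ SheafOfModules.{u} R)]
    (hML : ∀ U ∈ B, (E ⋙ SheafOfModules.toSheaf R ⋙
        (sheafSections (Opens.grothendieckTopology X) AddCommGrpCat.{u}).obj (op U) ⋙
          forget AddCommGrpCat.{u}).IsMittagLeffler) :
    IsZero (((lim : (ℕᵒᵖ ⥤ SheafOfModules.{u} R) ⥤ SheafOfModules.{u} R).rightDerived 1).obj E) := by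
  let I := (HasInjectiveResolutions.out E).out.some
  refine isZero_rightDerived B hB ha I 0 (A := E) (I.ι.f 0) I.ι_f_zero_comp_complex_d
    (fun n U b hU hb => ?_) fun U hU => diffSurj_of_isMittagLeffler _ (hML U hU)
  obtain ⟨-, ⟨w₀, h₀⟩, -⟩ := level_exact I n
  haveI := (level_exact I n).1
  exact exact_app h₀ b hb

end Groth.Agent.RlimMod16
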